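import Cfsg.Prelude.Def_KGroupFacts
import Mathlib

/-!
# Trivial Schur multipliers from abelian Sylow preimages

A stem extension has trivial kernel as soon as, for every prime, some subgroup of index coprime to
the prime has an abelian preimage (transfer).
-/

set_option autoImplicit false

namespace Cfsg.Agent.SylMult

open scoped IsMulCommutative commutatorElement

variable {Γ Q : Type*} [Group Γ] [Group Q]

/-- The transfer step. -/
theorem pow_index_eq_one [Finite Γ] (π : Γ →* Q) (hsurj : Function.Surjective π)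
    (hc : π.ker ≤ Subgroup.center Γ) {S : Subgroup Q}
    (hS : ∀ u v : Γ, π u ∈ S → π v ∈ S → u * v = v * u)
    {z : Γ} (hz : z ∈ π.ker) (hzd : z ∈ commutator Γ) : z ^ S.index = 1 := by
  set W := S.comap π
  haveI : IsMulCommutative ↥W := ⟨⟨fun x y => Subtype.ext (hS x y x.2 y.2)⟩⟩
  have key : ∀ (n : ℕ) (g₀ : Γ), g₀⁻¹ * z ^ n * g₀ ∈ W → g₀⁻¹ * z ^ n * g₀ = z ^ n := by
    intro n g₀ _
    rw [Subgroup.mem_center_iff.1 (hc (pow_mem hz n)) g₀⁻¹, inv_mul_cancel_right]
  have hT : MonoidHom.transfer (MonoidHom.id ↥W) z = 1 := by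
    exact Abelianization.commutator_subset_ker (MonoidHom.transfer (MonoidHom.id ↥W)) hzd
  have h := MonoidHom.transfer_eq_pow (ϕ := MonoidHom.id ↥W) z key
  rw [hT] at h
  rw [← Subgroup.index_comap_of_surjective S hsurj]
  exact (congrArg Subtype.val h).symm

/-- Lifts of elements of a cyclic subgroup commute. -/
theorem commute_of_cyclic (π : Γ →* Q) (hc : π.ker ≤ Subgroup.center Γ)
    {a : Γ} {u v : Γ} (hu : π u ∈ Subgroup.zpowers (π a)) (hv : π v ∈ Subgroup.zpowers (π a)) :
    u * v = v * u := by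
  have dec : ∀ t : Γ, π t ∈ Subgroup.zpowers (π a) → ∃ k : ℤ, ∃ z ∈ Subgroup.center Γ, t = a ^ k * z := by
    intro t ht
    obtain ⟨k, hk⟩ := ht
    simp only at hk
    exact ⟨k, (a ^ k)⁻¹ * t, hc (by rw [MonoidHom.mem_ker, map_mul, map_inv, map_zpow, hk, inv_mul_cancel]),
      by group⟩
  obtain ⟨k, z, hz, rfl⟩ := dec u hu
  obtain ⟨l, w, hw, rfl⟩ := dec v hv
  have cz : Commute (a ^ l * w) z := Subgroup.mem_center_iff.1 hz _
  have cw : Commute (a ^ k) w := Subgroup.mem_center_iff.1 hw _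
  exact ((((Commute.refl a).zpow_zpow k l).mul_right cw).mul_left cz.symm)

/-- Lifts of commuting elements commute when the centraliser of the first is perfect modulo it. -/
theorem commute_of_centralizer (π : Γ →* Q) (hsurj : Function.Surjective π)
    (hc : π.ker ≤ Subgroup.center Γ) {u : Γ}
    (hC : Subgroup.centralizer ({π u} : Set Q) ≤ Subgroup.zpowers (π u) ⊔
      ⁅Subgroup.centralizer ({π u} : Set Q), Subgroup.centralizer ({π u} : Set Q)⁆)
    {v : Γ} (hv : π u * π v = π v * π u) : u * v = v * u := by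
  set C := (Subgroup.centralizer ({π u} : Set Q)).comap π
  have hcen : ∀ g ∈ C, ⁅g, u⁆ ∈ Subgroup.center Γ := fun g hg => hc (by
    rw [MonoidHom.mem_ker, map_commutatorElement, commutatorElement_eq_one_iff_mul_comm]
    exact Subgroup.mem_centralizer_singleton_iff.1 hg)
  let φ : ↥C →* ↥(Subgroup.center Γ) :=
    { toFun := fun g => ⟨⁅(g : Γ), u⁆, hcen g g.2⟩
      map_one' := Subtype.ext (by simp [commutatorElement_def])
      map_mul' := fun a b => Subtype.ext (by
        show ⁅(a : Γ) * b, u⁆ = ⁅(a : Γ), u⁆ * ⁅(b : Γ), u⁆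
        have hb := Subgroup.mem_center_iff.1 (hcen b b.2) (a : Γ)
        have ha := Subgroup.mem_center_iff.1 (hcen a a.2) ⁅(b : Γ), u⁆
        calc ⁅(a : Γ) * b, u⁆ = (a : Γ) * ⁅(b : Γ), u⁆ * (a : Γ)⁻¹ * ⁅(a : Γ), u⁆ := by
              simp only [commutatorElement_def]; group
          _ = ⁅(a : Γ), u⁆ * ⁅(b : Γ), u⁆ := by rw [hb, mul_inv_cancel_right, ha]) }
  have hcomm : ∀ g ∈ ⁅C, C⁆, g * u = u * g := by
    intro g hg
    have hgC : g ∈ C := Subgroup.commutator_le_self C hg
    have hker : (⟨g, hgC⟩ : ↥C) ∈ commutator ↥C := by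
      rw [← Subgroup.map_subtype_commutator] at hg
      obtain ⟨t, ht, e⟩ := hg
      have : (⟨g, hgC⟩ : ↥C) = t := Subtype.ext e.symm
      rw [this]; exact ht
    have := congrArg Subtype.val (Abelianization.commutator_subset_ker φ hker)
    exact commutatorElement_eq_one_iff_mul_comm.1 this
  have hle : Subgroup.centralizer ({π u} : Set Q) ≤ (Subgroup.centralizer ({u} : Set Γ)).map π := by
    refine hC.trans (sup_le (Subgroup.zpowers_le.2 ⟨u, Subgroup.mem_centralizer_singleton_iff.2 rfl, rfl⟩) ?_)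
    rw [← Subgroup.map_comap_eq_self_of_surjective hsurj (Subgroup.centralizer ({π u} : Set Q)),
      ← Subgroup.map_commutator]
    exact Subgroup.map_mono fun g hg => Subgroup.mem_centralizer_singleton_iff.2 (hcomm g hg)
  obtain ⟨w, hw, e⟩ := hle (Subgroup.mem_centralizer_singleton_iff.2 hv.symm)
  have hz : w⁻¹ * v ∈ Subgroup.center Γ :=
    hc (by rw [MonoidHom.mem_ker, map_mul, map_inv, e, inv_mul_cancel])
  have h1 : Commute u w := (Subgroup.mem_centralizer_singleton_iff.1 hw).symm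
  have h2 : Commute u (w⁻¹ * v) := Subgroup.mem_center_iff.1 hz u
  have h3 := h1.mul_right h2
  rw [mul_inv_cancel_left] at h3
  exact h3

/-- The criterion. -/
theorem ker_eq_bot [Finite Γ] (π : Γ →* Q) (hπ : Cfsg.IsStemExtension π)
    (h : ∀ p : ℕ, p.Prime → ∃ S : Subgroup Q, ¬ p ∣ S.index ∧
      ∀ u v : Γ, π u ∈ S → π v ∈ S → u * v = v * u) : π.ker = ⊥ := by
  by_contra hne
  obtain ⟨p, hp, hpd⟩ := Nat.exists_prime_and_dvd (n := Nat.card π.ker)
    (fun e => hne (Subgroup.card_eq_one.1 e))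
  haveI := Fact.mk hp
  obtain ⟨⟨z, hz⟩, hzo⟩ := exists_prime_orderOf_dvd_card' p hpd
  rw [Subgroup.orderOf_mk] at hzo
  obtain ⟨S, hS, hcomm⟩ := h p hp
  refine hS ?_
  rw [← hzo]
  exact orderOf_dvd_of_pow_eq_one (pow_index_eq_one π hπ.1 hπ.2.1 hcomm hz (hπ.2.2 hz))

end Cfsg.Agent.SylMult
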