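import Cfsg.Agent.SylMult.Basic
import Cfsg.Agent.JankoOne.Centralizer
import Cfsg.Agent.ProjExt.Stem

/-!
# The Schur multiplier of the first Janko group is trivial
-/

set_option autoImplicit false

namespace Cfsg.Agent.SylMult

open Cfsg Cfsg.Agent.JankoOne
open scoped commutatorElement

/-- Nontrivial elements of the elementary subgroup of order eight are conjugate to the representative. -/
theorem conj_rep_of_mem {g : Spor.J1} (hg : g ∈ subFour) (h1 : g ≠ 1) :
    ∃ k : Spor.J1, k * g * k⁻¹ = wordG (repWord 2) := by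
  obtain ⟨j, hj, hje⟩ := hg
  rcases List.mem_cons.mp hj with rfl | hj'
  · exact absurd (j1_ext (by rw [hje, M7.eq_of_beq h_zero, den_idM]; rfl)) h1
  · obtain ⟨⟨e1, e2⟩, he, rfl⟩ := List.mem_map.mp hj'
    have h := List.all_eq_true.mp four_checks.2.2 _ he
    simp only [Bool.and_eq_true, Nat.blt_eq] at h
    obtain ⟨k, hk⟩ := hAt_mem e2 h.1
    have hlt := four_mem e1 hj
    have e := congrArg M7.den (M7.eq_of_beq h.2)
    rw [M7.den_mul (hOk h.1) (hOk hlt), M7.den_mul (wordG_den _).1 (hOk h.1), ← hk, ← hje,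
      (wordG_den _).2] at e
    have e' : k * g = wordG (repWord 2) * k := j1_ext e
    exact ⟨k, by rw [e', mul_inv_cancel_right]⟩

/-- All involutions are conjugate. -/
theorem conj_involution {x : Spor.J1} (hx : orderOf x = 2) :
    ∃ k : Spor.J1, k * x * k⁻¹ = wordG (repWord 2) := by
  haveI := Fact.mk Nat.prime_two
  obtain ⟨k, hk⟩ := conj_into (v := 3) (by rw [card_J1]; norm_num) (by rw [card_J1]; norm_num)
    (P := subFour) (by rw [card_subFour]; rfl) hx
  have hne : k * x * k⁻¹ ≠ 1 := fun e => by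
    rw [conj_eq_one_iff] at e
    rw [e, orderOf_one] at hx
    omega
  obtain ⟨l, hl⟩ := conj_rep_of_mem hk hne
  exact ⟨l * k, by rw [← hl]; group⟩

theorem subFour_sq {g : Spor.J1} (hg : g ∈ subFour) : g * g = 1 := by
  by_cases h1 : g = 1
  · rw [h1, one_mul]
  obtain ⟨k, hk⟩ := conj_rep_of_mem hg h1
  have h2 : wordG (repWord 2) * wordG (repWord 2) = 1 := by
    have h := pow_orderOf_eq_one (wordG (repWord 2))
    rwa [rep_spec (by simp), pow_two] at h
  rw [← hk] at h2
  have : k * (g * g) * k⁻¹ = 1 := by rw [← h2]; group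
  exact conj_eq_one_iff.1 this

theorem cent_tG_le :
    Subgroup.centralizer ({tG} : Set Spor.J1) ≤ Subgroup.zpowers tG ⊔
      ⁅Subgroup.centralizer ({tG} : Set Spor.J1), Subgroup.centralizer ({tG} : Set Spor.J1)⁆ := by
  set C := Subgroup.centralizer ({tG} : Set Spor.J1)
  have h60 : Nat.card (alternatingGroup (Fin 5)) = 60 := by
    rw [Nat.card_eq_fintype_card]; decide +kernel
  have h2 : Nat.card (Multiplicative (ZMod 2)) = 2 := by
    rw [Nat.card_congr Multiplicative.toAdd]; exact Nat.card_zmod 2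
  have hsurj : Function.Surjective prodHom := ((Nat.bijective_iff_injective_and_card _).mpr
    ⟨prodHom_injective, le_antisymm (Nat.card_le_card_of_injective _ prodHom_injective) (by
      rw [Nat.card_prod, h2, h60]; exact card_cent_le)⟩).2
  intro g hg
  obtain ⟨⟨a, σ⟩, hgv⟩ := hsurj ⟨g, hg⟩
  have hsplit : (a, σ) = (a, 1) * ((1 : Multiplicative (ZMod 2)), σ) := by simp
  rw [hsplit, map_mul] at hgv
  have hg' : g = ((prodHom (a, 1) : ↥C) : Spor.J1) * ((prodHom (1, σ) : ↥C) : Spor.J1) :=
    (congrArg Subtype.val hgv).symm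
  rw [hg']
  refine Subgroup.mul_mem_sup ?_ ?_
  · show tPow a * kG (kIdx 1) ∈ _
    rw [kG_kIdx_one, mul_one, tPow]
    split
    · exact one_mem _
    · exact Subgroup.mem_zpowers _
  · have hperf : commutator (alternatingGroup (Fin 5)) = ⊤ :=
      _root_.commutator_alternatingGroup_eq_top (by rw [Nat.card_fin])
    let ι : alternatingGroup (Fin 5) →* Spor.J1 :=
      C.subtype.comp (prodHom.comp (MonoidHom.inr (Multiplicative (ZMod 2)) (alternatingGroup (Fin 5))))
    have hle : ι.range ≤ C := by rintro _ ⟨s, rfl⟩; exact (prodHom (1, s)).2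
    refine Subgroup.commutator_mono hle hle ?_
    rw [MonoidHom.range_eq_map, ← Subgroup.map_commutator, ← commutator_def, hperf]
    exact ⟨σ, Subgroup.mem_top σ, rfl⟩

theorem cent_involution_le {x : Spor.J1} (hx : orderOf x = 2) :
    Subgroup.centralizer ({x} : Set Spor.J1) ≤ Subgroup.zpowers x ⊔
      ⁅Subgroup.centralizer ({x} : Set Spor.J1), Subgroup.centralizer ({x} : Set Spor.J1)⁆ := by
  obtain ⟨k, hk⟩ := conj_involution hx
  obtain ⟨l, hl⟩ := conj_involution orderOf_tG
  set c := k⁻¹ * l
  have hc : c * tG * c⁻¹ = x := by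
    calc c * tG * c⁻¹ = k⁻¹ * (l * tG * l⁻¹) * k := by simp only [c]; group
      _ = x := by rw [hl, ← hk]; group
  set f := (MulAut.conj c).toMonoidHom
  have hf : f tG = x := hc
  have hmap : Subgroup.centralizer ({x} : Set Spor.J1) = (Subgroup.centralizer ({tG} : Set Spor.J1)).map f := by
    ext g
    rw [Subgroup.mem_map_equiv (f := MulAut.conj c), Subgroup.mem_centralizer_singleton_iff,
      Subgroup.mem_centralizer_singleton_iff]
    simp only [MulAut.conj_symm_apply]
    constructor
    · intro h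
      rw [← hc] at h
      calc c⁻¹ * g * c * tG = c⁻¹ * (g * (c * tG * c⁻¹)) * c := by group
        _ = c⁻¹ * ((c * tG * c⁻¹) * g) * c := by rw [h]
        _ = tG * (c⁻¹ * g * c) := by group
    · intro h
      rw [← hc]
      calc g * (c * tG * c⁻¹) = c * (c⁻¹ * g * c * tG) * c⁻¹ := by group
        _ = c * (tG * (c⁻¹ * g * c)) * c⁻¹ := by rw [h]
        _ = (c * tG * c⁻¹) * g := by group
  rw [hmap]
  refine (Subgroup.map_mono cent_tG_le).trans ?_
  rw [Subgroup.map_sup, MonoidHom.map_zpowers, Subgroup.map_commutator, hf]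

theorem multiplier_J1 : Cfsg.HasCyclicSchurMultiplier ↥Spor.J1 1 := by
  haveI : Finite ↥Spor.J1 := Nat.finite_of_card_ne_zero (by rw [card_J1]; norm_num)
  refine ProjExt.Stem.hasCyclicSchurMultiplier_one fun Γ _ _ π hπ => ker_eq_bot π hπ fun p hp => ?_
  have := Fact.mk hp
  rcases eq_or_ne p 2 with rfl | hp2
  · refine ⟨subFour, ?_, ?_⟩
    · have h := subFour.card_mul_index
      rw [card_subFour, card_J1] at h
      omega
    · intro u v hu hv
      have hcomm : π u * π v = π v * π u := by
        have h1 := subFour_sq hu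
        have h2 := subFour_sq hv
        have h3 := subFour_sq (mul_mem hu hv)
        calc π u * π v = (π u * π v)⁻¹ := (inv_eq_of_mul_eq_one_right h3).symm
          _ = π v * π u := by
            rw [mul_inv_rev, inv_eq_of_mul_eq_one_right h1, inv_eq_of_mul_eq_one_right h2]
      by_cases h1 : π u = 1
      · exact (Subgroup.mem_center_iff.1 (hπ.2.1 h1) v).symm
      · exact commute_of_centralizer π hπ.1 hπ.2.1
          (cent_involution_le (orderOf_eq_prime (by rw [pow_two]; exact subFour_sq hu) h1)) hcomm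
  · by_cases hpd : p ∣ 175560
    · have hpmem : p ∈ ([2, 3, 5, 7, 11, 19] : List ℕ) := by
        have hf : ∀ q : ℕ, q.Prime → q ∣ 2 * 2 * 2 * 3 * 5 * 7 * 11 * 19 → q ∈ ([2, 3, 5, 7, 11, 19] : List ℕ) := by
          intro q hq hd
          simp only [Nat.Prime.dvd_mul hq, or_assoc] at hd
          rcases hd with h | h | h | h | h | h | h | h <;>
            (have := (Nat.prime_dvd_prime_iff_eq hq (by norm_num)).1 h; subst this; simp)
        exact hf p hp hpd
      obtain ⟨a, ha⟩ := hπ.1 (wordG (repWord p))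
      refine ⟨Subgroup.zpowers (π a), ?_, fun u v hu hv => commute_of_cyclic π hπ.2.1 hu hv⟩
      have h := (Subgroup.zpowers (π a)).card_mul_index
      rw [Nat.card_zpowers, ha, rep_spec hpmem, card_J1] at h
      intro hd
      obtain ⟨k, hk⟩ := hd
      rw [ha] at hk
      rw [hk] at h
      have h' : p * p * k = 175560 := by rw [← h]; ring
      simp only [List.mem_cons, List.not_mem_nil, or_false] at hpmem
      rcases hpmem with rfl | rfl | rfl | rfl | rfl | rfl <;> omega
    · refine ⟨⊥, by rw [Subgroup.index_bot, card_J1]; exact hpd, fun u v hu _ => ?_⟩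
      exact (Subgroup.mem_center_iff.1 (hπ.2.1 (Subgroup.mem_bot.1 hu)) v).symm

end Cfsg.Agent.SylMult
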